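import Mathlib

/-!
# Helper24 — the adjugate contraction on the naive cotangent complex of `A[x]/(f_1..f_m)`
-/

set_option autoImplicit false
universe u
open MvPolynomial Algebra

namespace Groth.Agent.Lib.Helper24.JacExt

section
variable (A : Type u) [CommRing A] {n m : ℕ} (hmn : m ≤ n) (f : Fin m → MvPolynomial (Fin n) A)

/-- the quotient ring -/
abbrev Bq : Type u := MvPolynomial (Fin n) A ⧸ Ideal.span (Set.range f)

theorem aeval_mk_X :
    aeval (fun i : Fin n => (Ideal.Quotient.mk (Ideal.span (Set.range f)) (X i))) =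
      Ideal.Quotient.mkₐ A (Ideal.span (Set.range f)) := by
  apply MvPolynomial.algHom_ext
  intro i
  simp

/-- the given presentation -/
noncomputable def gens : Generators A (Bq A f) (Fin n) :=
  Generators.ofSurjective (fun i => Ideal.Quotient.mk _ (X i)) (by
    rw [aeval_mk_X]
    exact Ideal.Quotient.mkₐ_surjective _ _)

theorem aeval_gens_val (p : MvPolynomial (Fin n) A) :
    aeval (gens A f).val p = Ideal.Quotient.mk (Ideal.span (Set.range f)) p := by
  change aeval (fun i : Fin n => (Ideal.Quotient.mk (Ideal.span (Set.range f)) (X i))) p = _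
  rw [aeval_mk_X]
  rfl

theorem ker_gens : Ideal.span (Set.range f) = (gens A f).toExtension.ker := by
  have h1 := (gens A f).ker_eq_ker_aeval_val
  have h2 : (aeval (gens A f).val : MvPolynomial (Fin n) A →ₐ[A] Bq A f) =
      Ideal.Quotient.mkₐ A _ := aeval_mk_X A f
  rw [show (gens A f).toExtension.ker = (gens A f).ker from rfl, h1, h2]
  exact (Ideal.Quotient.mkₐ_ker A _).symm

/-- the classes of the `f j` in `I/I²` -/
noncomputable def π (j : Fin m) : (gens A f).toExtension.Cotangent :=
  Extension.Cotangent.mk ⟨f j, (ker_gens A f).le (Ideal.subset_span ⟨j, rfl⟩)⟩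

set_option maxHeartbeats 1000000 in
theorem span_π : Submodule.span (Bq A f) (Set.range (π A f)) = ⊤ :=
  Extension.Cotangent.span_eq_top_of_span_eq_ker (P := (gens A f).toExtension) f (ker_gens A f)

theorem linComb_π_surjective :
    Function.Surjective (Fintype.linearCombination (Bq A f) (π A f)) := by
  rw [← LinearMap.range_eq_top, Fintype.range_linearCombination, span_π]

/-- the full Jacobian over `B` -/
noncomputable def Jbar : Matrix (Fin n) (Fin m) (Bq A f) :=
  Matrix.of fun i j => Ideal.Quotient.mk (Ideal.span (Set.range f)) (pderiv i (f j))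

/-- the square part of the Jacobian over `B` -/
noncomputable def Mbar : Matrix (Fin m) (Fin m) (Bq A f) :=
  Matrix.of fun i j => Ideal.Quotient.mk (Ideal.span (Set.range f))
    (pderiv (Fin.castLE hmn i) (f j))

theorem det_Mbar : (Mbar A hmn f).det = Ideal.Quotient.mk (Ideal.span (Set.range f))
    (Matrix.det (Matrix.of (fun i j : Fin m => pderiv (Fin.castLE hmn i) (f j)))) := by
  rw [RingHom.map_det]
  rfl

theorem repr_d_π (j : Fin m) (i : Fin n) :
    (gens A f).cotangentSpaceBasis.repr ((gens A f).toExtension.cotangentComplex (π A f j)) i =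
      Jbar A f i j := by
  rw [π, Extension.cotangentComplex_mk, Generators.cotangentSpaceBasis_repr_one_tmul,
    aeval_gens_val]
  rfl

theorem equivFun_d_linComb (v : Fin m → Bq A f) :
    (gens A f).cotangentSpaceBasis.equivFun ((gens A f).toExtension.cotangentComplex
      (Fintype.linearCombination (Bq A f) (π A f) v)) = (Jbar A f).mulVec v := by
  funext i
  rw [Fintype.linearCombination_apply, map_sum, map_sum, Finset.sum_apply, Matrix.mulVec,
    dotProduct]
  refine Finset.sum_congr rfl fun j _ => ?_
  rw [map_smul, map_smul, Pi.smul_apply, Module.Basis.equivFun_apply, repr_d_π, smul_eq_mul,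
    mul_comm]

/-- the contraction `B ⊗ Ω → I/I²` -/
noncomputable def hlin :
    (gens A f).toExtension.CotangentSpace →ₗ[Bq A f] (gens A f).toExtension.Cotangent :=
  Fintype.linearCombination (Bq A f) (π A f) ∘ₗ (Mbar A hmn f).adjugate.mulVecLin ∘ₗ
    LinearMap.funLeft (Bq A f) (Bq A f) (Fin.castLE hmn) ∘ₗ
      (gens A f).cotangentSpaceBasis.equivFun.toLinearMap

theorem hlin_apply (x : (gens A f).toExtension.CotangentSpace) :
    hlin A hmn f x = Fintype.linearCombination (Bq A f) (π A f)
      ((Mbar A hmn f).adjugate.mulVec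
        (((gens A f).cotangentSpaceBasis.equivFun x) ∘ Fin.castLE hmn)) := rfl

theorem Jbar_mulVec_comp (v : Fin m → Bq A f) :
    ((Jbar A f).mulVec v) ∘ Fin.castLE hmn = (Mbar A hmn f).mulVec v := by
  funext i
  rfl

theorem hlin_d (x : (gens A f).toExtension.Cotangent) :
    hlin A hmn f ((gens A f).toExtension.cotangentComplex x) = (Mbar A hmn f).det • x := by
  obtain ⟨v, rfl⟩ := linComb_π_surjective A f x
  rw [hlin_apply, equivFun_d_linComb, Jbar_mulVec_comp, Matrix.mulVec_mulVec,
    Matrix.adjugate_mul, Matrix.smul_mulVec, Matrix.one_mulVec, map_smul]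

end

section Square
variable (A : Type u) [CommRing A] {n : ℕ} (hnn : n ≤ n) (f : Fin n → MvPolynomial (Fin n) A)

theorem Jbar_eq_Mbar : Jbar A f = Mbar A hnn f := by
  ext i j
  rfl

theorem d_hlin (x : (gens A f).toExtension.CotangentSpace) :
    (gens A f).toExtension.cotangentComplex (hlin A hnn f x) = (Mbar A hnn f).det • x := by
  apply (gens A f).cotangentSpaceBasis.equivFun.injective
  rw [hlin_apply, equivFun_d_linComb, Jbar_eq_Mbar A hnn, Matrix.mulVec_mulVec,
    Matrix.mul_adjugate, Matrix.smul_mulVec, Matrix.one_mulVec, map_smul]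
  congr 1

end Square

end Groth.Agent.Lib.Helper24.JacExt
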