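import Mathlib
import Groth.Prelude.Def_LCI2
import Groth.Agent.Lib.Helper5.NLHtpy

/-!
# Helper24 — vanishing of `Q(ψ) ≫ φ` for a self-map `ψ` of a two-term complex `[-1, 0]` with projective
degree-`0` term, killing degree `-1`, and `φ` into a complex concentrated in degrees `≤ -1`.
-/

set_option autoImplicit false
universe u
open CategoryTheory CategoryTheory.Limits HomologicalComplex
attribute [local instance] HasDerivedCategory.standard

namespace Groth.Agent.Lib.Helper24.JacExt

section
variable {B : Type u} [CommRing B]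

theorem Q_map_comp_eq_zero {K : CochainComplex (ModuleCat.{u} B) ℤ}
    (hK : ∀ k : ℤ, k ≠ -1 → k ≠ 0 → IsZero (K.X k))
    [Projective (K.X 0)] (ψ : K ⟶ K) (hψ : ψ.f (-1) = 0)
    (L : CochainComplex (ModuleCat.{u} B) ℤ) [L.IsStrictlyLE (-1)]
    (φ : DerivedCategory.Q.obj K ⟶ DerivedCategory.Q.obj L) :
    DerivedCategory.Q.map ψ ≫ φ = 0 := by
  let v : K ⟶ (HomologicalComplex.single (ModuleCat.{u} B) (ComplexShape.up ℤ) 0).obj (K.X 0) :=
    mkHomToSingle (ψ.f 0) (by
      intro i hi
      have hi' : i = -1 := by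
        simp only [ComplexShape.up_Rel] at hi
        omega
      subst hi'
      rw [← ψ.comm, hψ, zero_comp])
  let i : (HomologicalComplex.single (ModuleCat.{u} B) (ComplexShape.up ℤ) 0).obj (K.X 0) ⟶ K :=
    mkHomFromSingle (𝟙 _) (by
      intro k hk
      have hk' : k = 1 := by
        simp only [ComplexShape.up_Rel] at hk
        omega
      subst hk'
      exact (hK 1 (by decide) (by decide)).eq_of_tgt _ _)
  have hvi : ψ = v ≫ i := by
    ext k : 1
    by_cases hk0 : k = 0
    · subst hk0
      rw [comp_f]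
      simp only [v, i]
      rw [mkHomToSingle_f, mkHomFromSingle_f]
      rw [Category.comp_id, Category.assoc, Iso.inv_hom_id, Category.comp_id]
    · have hz : IsZero (((HomologicalComplex.single (ModuleCat.{u} B) (ComplexShape.up ℤ) 0).obj (K.X 0)).X k) :=
        isZero_single_obj_X _ _ _ _ hk0
      rw [comp_f, hz.eq_of_tgt (v.f k) 0, zero_comp]
      by_cases hk1 : k = -1
      · subst hk1
        exact hψ
      · exact (hK k hk1 hk0).eq_of_src _ _
  have h0 : DerivedCategory.Q.map i ≫ φ = 0 :=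
    DerivedCategory.from_singleFunctor_obj_eq_zero_of_projective (P := K.X 0) (i := 0)
      (DerivedCategory.Q.map i ≫ φ) (-1) (by norm_num)
  rw [hvi, Functor.map_comp, Category.assoc, h0, comp_zero]

theorem Q_map_comp_eq_zero' {K : CochainComplex (ModuleCat.{u} B) ℤ}
    (hK : ∀ k : ℤ, k ≠ -1 → k ≠ 0 → IsZero (K.X k))
    [Projective (K.X 0)] (ψ : K ⟶ K) (hψ : ψ.f (-1) = 0)
    (N : Type u) [AddCommGroup N] [Module B N]
    (φ : DerivedCategory.Q.obj K ⟶ (Dual.inD B N)⟦(1 : ℤ)⟧) :
    DerivedCategory.Q.map ψ ≫ φ = 0 := by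
  rw [← cancel_mono (((DerivedCategory.singleFunctors (ModuleCat.{u} B)).shiftIso 1 (-1) 0
    (by lia)).hom.app (ModuleCat.of B N)), zero_comp, Category.assoc]
  exact Q_map_comp_eq_zero hK ψ hψ
    ((CochainComplex.singleFunctor (ModuleCat.{u} B) (-1)).obj (ModuleCat.of B N)) _

end

end Groth.Agent.Lib.Helper24.JacExt
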