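import Mathlib
import Groth.Prelude.Def_SheafNL
import Groth.Agent.Lib.Helper5.NLHtpy
import Groth.Agent.Lib.Helper24.JacExt.Alg
import Groth.Agent.Lib.Helper24.JacExt.Derived

/-!
# Helper24 — chain level: `det • 𝟙` on `NL` of the presentation `A[x]/(f)` is homotopic to a map
vanishing in degree `-1` (and to `0` when `n = m`).
-/

set_option autoImplicit false
universe u
open CategoryTheory CategoryTheory.Limits HomologicalComplex MvPolynomial Algebra
attribute [local instance] HasDerivedCategory.standard

namespace Groth.Agent.Lib.Helper24.JacExt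

open Groth.Agent.Lib.Helper5.NLHtpy

section
variable (A : Type u) [CommRing A] {n m : ℕ} (hmn : m ≤ n) (f : Fin m → MvPolynomial (Fin n) A)

/-- the differential of the complex -/
noncomputable abbrev aa : ModuleCat.of (Bq A f) (gens A f).toExtension.Cotangent ⟶
    ModuleCat.of (Bq A f) (gens A f).toExtension.CotangentSpace :=
  ModuleCat.ofHom (gens A f).toExtension.cotangentComplex

/-- the contraction -/
noncomputable abbrev hh : ModuleCat.of (Bq A f) (gens A f).toExtension.CotangentSpace ⟶
    ModuleCat.of (Bq A f) (gens A f).toExtension.Cotangent :=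
  ModuleCat.ofHom (hlin A hmn f)

/-- `det • id - d ∘ h` on `B ⊗ Ω` -/
noncomputable def vlin :
    (gens A f).toExtension.CotangentSpace →ₗ[Bq A f] (gens A f).toExtension.CotangentSpace :=
  (Mbar A hmn f).det • LinearMap.id - (gens A f).toExtension.cotangentComplex ∘ₗ hlin A hmn f

theorem vlin_apply (x : (gens A f).toExtension.CotangentSpace) :
    vlin A hmn f x = (Mbar A hmn f).det • x -
      (gens A f).toExtension.cotangentComplex (hlin A hmn f x) := rfl

theorem vlin_d (x : (gens A f).toExtension.Cotangent) :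
    vlin A hmn f ((gens A f).toExtension.cotangentComplex x) = 0 := by
  rw [vlin_apply, hlin_d, map_smul, sub_self]

/-- the complex -/
noncomputable abbrev CC : DRing.Cx (Bq A f) := NLCx.cx (gens A f).toExtension

/-- the chain map `det • 𝟙 - [d, h]` -/
noncomputable def uu : CC A f ⟶ CC A f :=
  mkHomFromDouble hr hne (0 : _ ⟶ (CC A f).X (-1))
    (ModuleCat.ofHom (vlin A hmn f) ≫ (x1Iso (gens A f).toExtension).inv)
    (by
      rw [zero_comp, ← Category.assoc]
      have : ModuleCat.ofHom (gens A f).toExtension.cotangentComplex ≫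
          ModuleCat.ofHom (vlin A hmn f) = 0 := by
        ext x
        exact vlin_d A hmn f x
      rw [this, zero_comp])
    (by
      intro k hk
      have hk' : k = 1 := by
        simp only [ComplexShape.up_Rel] at hk
        omega
      subst hk'
      exact (isZero_double_X _ hr 1 (by decide) (by decide)).eq_of_tgt _ _)

theorem uu_f_neg_one : (uu A hmn f).f (-1) = 0 := by
  rw [uu, mkHomFromDouble_f₀, comp_zero]
  rfl

theorem uu_f_zero : (uu A hmn f).f 0 = (x1Iso (gens A f).toExtension).hom ≫
    ModuleCat.ofHom (vlin A hmn f) ≫ (x1Iso (gens A f).toExtension).inv := by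
  rw [uu, mkHomFromDouble_f₁]
  rfl

theorem smul_id_f (k : ℤ) : (((Mbar A hmn f).det • 𝟙 (CC A f)) : CC A f ⟶ CC A f).f k =
    (Mbar A hmn f).det • 𝟙 ((CC A f).X k) := by
  rw [smul_f_apply, id_f]

theorem conj_smul {X Y : ModuleCat.{u} (Bq A f)} (e : X ≅ Y) (r : Bq A f) (l : Y ⟶ Y)
    (hl : ∀ y, l.hom y = r • y) : e.hom ≫ l ≫ e.inv = r • 𝟙 X := by
  ext x
  simp only [ModuleCat.hom_comp, LinearMap.comp_apply, ModuleCat.hom_smul, ModuleCat.hom_id,
    LinearMap.smul_apply, LinearMap.id_apply]
  rw [hl, map_smul]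
  congr 1
  exact e.hom_inv_id_apply x

theorem h0_eq : (((Mbar A hmn f).det • 𝟙 (CC A f)) : CC A f ⟶ CC A f).f (-1) =
    (x0Iso (gens A f).toExtension).hom ≫ ModuleCat.ofHom (gens A f).toExtension.cotangentComplex ≫
      ModuleCat.ofHom (hlin A hmn f) ≫ (x0Iso (gens A f).toExtension).inv +
        (uu A hmn f).f (-1) := by
  rw [uu_f_neg_one, add_zero, smul_id_f, ← Category.assoc
    (ModuleCat.ofHom (gens A f).toExtension.cotangentComplex)]
  exact (conj_smul A f _ _ _ (fun y => hlin_d A hmn f y)).symm

theorem h1_eq : (((Mbar A hmn f).det • 𝟙 (CC A f)) : CC A f ⟶ CC A f).f 0 =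
    (x1Iso (gens A f).toExtension).hom ≫ ModuleCat.ofHom (hlin A hmn f) ≫
      ModuleCat.ofHom (gens A f).toExtension.cotangentComplex ≫
        (x1Iso (gens A f).toExtension).inv + (uu A hmn f).f 0 := by
  rw [uu_f_zero, smul_id_f, ← Category.assoc (ModuleCat.ofHom (hlin A hmn f)),
    ← Preadditive.comp_add, ← Preadditive.add_comp]
  refine (conj_smul A f _ _ _ (fun y => ?_)).symm
  change (gens A f).toExtension.cotangentComplex (hlin A hmn f y) + vlin A hmn f y = _
  rw [vlin_apply, add_sub_cancel]

/-- `det • 𝟙` is homotopic to `uu` -/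
noncomputable def htpy : Homotopy ((Mbar A hmn f).det • 𝟙 (CC A f)) (uu A hmn f) :=
  doubleHomotopy (ModuleCat.ofHom (gens A f).toExtension.cotangentComplex)
    (ModuleCat.ofHom (gens A f).toExtension.cotangentComplex) _ _
    (ModuleCat.ofHom (hlin A hmn f)) (h0_eq A hmn f) (h1_eq A hmn f)

theorem isZero_CC_X (k : ℤ) (h1 : k ≠ -1) (h0 : k ≠ 0) : IsZero ((CC A f).X k) :=
  isZero_double_X _ hr k h1 h0

instance projective_CC_X_zero : Projective ((CC A f).X 0) := by
  haveI : Module.Free (Bq A f) (gens A f).toExtension.CotangentSpace :=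
    Module.Free.of_basis (gens A f).cotangentSpaceBasis
  haveI : Projective (ModuleCat.of (Bq A f) (gens A f).toExtension.CotangentSpace) :=
    (IsProjective.iff_projective _).mp inferInstance
  exact Projective.of_iso (x1Iso (gens A f).toExtension).symm inferInstance

end

section Square
variable (A : Type u) [CommRing A] {n : ℕ} (hnn : n ≤ n) (f : Fin n → MvPolynomial (Fin n) A)

theorem vlin_eq_zero : vlin A hnn f = 0 := by
  refine LinearMap.ext fun x => ?_
  rw [vlin_apply, d_hlin, sub_self]
  rfl

theorem uu_eq_zero : uu A hnn f = 0 := by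
  refine cx_hom_ext ?_ ?_
  · rw [uu_f_neg_one]
    rfl
  · rw [uu_f_zero, vlin_eq_zero]
    simp

end Square

end Groth.Agent.Lib.Helper24.JacExt
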